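import Mathlib
import Cfsg.Agent.Lib.ZStar.Cor

/-!
# `Z^*` for `2`-elements of a Sylow subgroup which are not fused
-/

set_option autoImplicit false
set_option linter.unusedSectionVars false
set_option linter.style.haveILetI false

namespace Cfsg.Agent.Lib.ZStar.Fus

open Cfsg Subgroup
open Cfsg.Agent.Lib.ZStar.Cor

universe u

variable {G : Type u} [Group G] [Finite G]

/-- A `2`-element in `O(G)` is trivial. -/
theorem eq_one_of_mem_core {c : G} (hc : c ∈ pPrimeCore 2 G) (h2 : ∃ k : ℕ, orderOf c = 2 ^ k) :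
    c = 1 := by
  obtain ⟨k, hk⟩ := h2
  have h3 := Cfsg.Agent.Lib.Core.Basic.orderOf_coprime_of_mem_pPrimeCore hc
  rw [hk] at h3
  rcases k with _ | k
  · rw [pow_zero] at hk
    exact orderOf_eq_one_iff.mp hk
  · exfalso
    have h5 : Nat.Coprime 2 2 :=
      Nat.Coprime.coprime_dvd_left (Dvd.intro_left _ (pow_succ 2 k).symm) h3
    norm_num at h5

/-- A Sylow subgroup embeds in `G / O(G)`. -/
theorem eq_of_mul_mem_core (S : Sylow 2 G) {a b : G} (ha : a ∈ (S : Subgroup G))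
    (hb : b ∈ (S : Subgroup G)) (h : a⁻¹ * b ∈ pPrimeCore 2 G) : a = b := by
  haveI : Fact (Nat.Prime 2) := ⟨Nat.prime_two⟩
  have h1 : a⁻¹ * b ∈ (S : Subgroup G) := mul_mem (inv_mem ha) hb
  obtain ⟨k, hk⟩ := (IsPGroup.iff_orderOf.mp S.isPGroup') ⟨_, h1⟩
  rw [Subgroup.orderOf_mk] at hk
  have h2 := eq_one_of_mem_core h ⟨k, hk⟩
  have h3 : b = a := by
    have := congrArg (fun t => a * t) h2
    simpa using this
  exact h3.symm

/-- A `2`-subgroup of `S O(G)` is conjugate into `S` by an element of `O(G)`. -/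
theorem exists_conj_into_of_map (S : Sylow 2 G) {Q : Subgroup G} (hQ : IsPGroup 2 Q)
    (hm : ∀ y ∈ Q, QuotientGroup.mk' (pPrimeCore 2 G) y ∈
      (S : Subgroup G).map (QuotientGroup.mk' (pPrimeCore 2 G))) :
    ∃ o ∈ pPrimeCore 2 G, ∀ y ∈ Q, o * y * o⁻¹ ∈ (S : Subgroup G) := by
  classical
  haveI : Fact (Nat.Prime 2) := ⟨Nat.prime_two⟩
  set N := pPrimeCore 2 G with hN
  haveI hNn : N.Normal := Cfsg.pPrimeCore_normal 2 G
  set π := QuotientGroup.mk' N with hπ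
  have hker : ∀ x, π x = 1 ↔ x ∈ N := fun x => QuotientGroup.eq_one_iff x
  set Y : Subgroup G := ((S : Subgroup G).map π).comap π with hY
  have hSY : (S : Subgroup G) ≤ Y := fun s hs => ⟨s, hs, rfl⟩
  have hQY : Q ≤ Y := fun y hy => hm y hy
  set S' : Sylow 2 Y := S.subtype hSY with hS'
  let Q' : Subgroup Y := Q.subgroupOf Y
  have hQ' : IsPGroup 2 Q' := hQ.comap_subtype
  obtain ⟨w, hw⟩ := Cfsg.Agent.Lib.ZStar.Q8Basic.exists_conj_into_sylow S' hQ'
  have hmem : ∀ c : Y, c ∈ (S' : Subgroup Y) ↔ (c : G) ∈ (S : Subgroup G) := by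
    intro c
    rw [hS', Sylow.coe_subtype, Subgroup.mem_subgroupOf]
  obtain ⟨s, hs, hsw⟩ := w.2
  set o₀ := (w : G) * s⁻¹ with ho₀
  have ho₀N : o₀ ∈ N := by
    rw [← hker, ho₀, map_mul, map_inv, ← hsw]
    simp
  refine ⟨o₀⁻¹, inv_mem ho₀N, fun y hy => ?_⟩
  have h1 := (hmem _).mp (hw ⟨y, hQY hy⟩ (by simpa [Q', Subgroup.mem_subgroupOf] using hy))
  have h2 : ((w⁻¹ * ⟨y, hQY hy⟩ * w : Y) : G) = (w : G)⁻¹ * y * (w : G) := rfl
  rw [h2] at h1
  have h3 : o₀⁻¹ * y * o₀⁻¹⁻¹ = s * ((w : G)⁻¹ * y * (w : G)) * s⁻¹ := by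
    rw [ho₀]
    group
  rw [h3]
  exact mul_mem (mul_mem hs h1) (inv_mem hs)

/-- The fixing property transfers to `G / O(G)`. -/
theorem fixed_of_image (S : Sylow 2 G) {y g : G} (hy : y ∈ (S : Subgroup G))
    (hfix : ∀ g : G, g * y * g⁻¹ ∈ (S : Subgroup G) → g * y * g⁻¹ = y)
    (hm : QuotientGroup.mk' (pPrimeCore 2 G) (g * y * g⁻¹) ∈
      (S : Subgroup G).map (QuotientGroup.mk' (pPrimeCore 2 G))) :
    QuotientGroup.mk' (pPrimeCore 2 G) (g * y * g⁻¹) = QuotientGroup.mk' (pPrimeCore 2 G) y := by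
  classical
  haveI : Fact (Nat.Prime 2) := ⟨Nat.prime_two⟩
  have h2 : ∃ k : ℕ, orderOf (g * y * g⁻¹) = 2 ^ k := by
    obtain ⟨k, hk⟩ := (IsPGroup.iff_orderOf.mp S.isPGroup') ⟨y, hy⟩
    rw [Subgroup.orderOf_mk] at hk
    refine ⟨k, ?_⟩
    rw [← hk]
    simpa using (MulAut.conj g).orderOf_eq y
  obtain ⟨k, hk⟩ := h2
  have hp : IsPGroup 2 (zpowers (g * y * g⁻¹)) := by
    apply IsPGroup.of_card (n := k)
    rw [Nat.card_zpowers, hk]
  obtain ⟨o, ho, h3⟩ := exists_conj_into_of_map S hp (fun u hu => by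
    obtain ⟨j, rfl⟩ := hu
    simp only
    rw [map_zpow]
    exact zpow_mem hm j)
  have h4 := h3 _ (mem_zpowers _)
  have e : o * (g * y * g⁻¹) * o⁻¹ = (o * g) * y * (o * g)⁻¹ := by group
  rw [e] at h4
  have h5 := hfix _ h4
  rw [← e] at h5
  have hpi : QuotientGroup.mk' (pPrimeCore 2 G) o = 1 := (QuotientGroup.eq_one_iff o).mpr ho
  have h6 := congrArg (QuotientGroup.mk' (pPrimeCore 2 G)) h5
  rw [map_mul, map_mul, map_inv, hpi] at h6
  simpa using h6

/-- **The elements of `S` all of whose powers are not fused are central modulo `O(G)`.** -/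
theorem central_of_fixed : ∀ (n : ℕ) (G : Type u) [Group G] [Finite G], Nat.card G = n →
    ∀ (S : Sylow 2 G) (x : G), x ∈ (S : Subgroup G) →
    (∀ y ∈ zpowers x, ∀ g : G, g * y * g⁻¹ ∈ (S : Subgroup G) → g * y * g⁻¹ = y) →
    ∀ g : G, g * x * g⁻¹ * x⁻¹ ∈ pPrimeCore 2 G := by
  intro n
  induction n using Nat.strong_induction_on with
  | _ n ih =>
  intro G _ _ hn S x hx hfix g
  classical
  haveI : Fact (Nat.Prime 2) := ⟨Nat.prime_two⟩
  by_cases hx1 : x = 1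
  · subst hx1
    simpa using Subgroup.one_mem _
  obtain ⟨k, hk⟩ := (IsPGroup.iff_orderOf.mp S.isPGroup') ⟨x, hx⟩
  rw [Subgroup.orderOf_mk] at hk
  have h2 : 2 ∣ orderOf x := by
    rcases k with _ | k
    · exact absurd (orderOf_eq_one_iff.mp (by simpa using hk)) hx1
    · rw [hk]
      exact Dvd.intro_left _ (pow_succ 2 k).symm
  set x₀ := x ^ (orderOf x / 2) with hx₀
  have hx₀o : orderOf x₀ = 2 := orderOf_pow_orderOf_div (orderOf_pos x).ne' h2
  have hx₀z : x₀ ∈ zpowers x := npow_mem_zpowers x _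
  have hx₀S : x₀ ∈ (S : Subgroup G) := pow_mem hx _
  have hiso : IsIsolatedInvolution x₀ :=
    isolated_of_fixed S hx₀o (fun g hg => hfix x₀ hx₀z g hg)
  set N := pPrimeCore 2 G with hN
  haveI hNn : N.Normal := Cfsg.pPrimeCore_normal 2 G
  set π := QuotientGroup.mk' N with hπ
  have hπs : Function.Surjective π := QuotientGroup.mk'_surjective N
  have hker : ∀ x, π x = 1 ↔ x ∈ N := fun x => QuotientGroup.eq_one_iff x
  have hcen : ∀ c : G ⧸ N, c * π x₀ = π x₀ * c := by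
    intro c
    obtain ⟨t, rfl⟩ := hπs c
    have h1 := (hker _).mpr (zstar' hiso t)
    rw [map_mul, map_mul, map_mul, map_inv, map_inv] at h1
    rw [mul_inv_eq_one, mul_inv_eq_iff_eq_mul] at h1
    exact h1.symm
  set L : Subgroup G := (zpowers (π x₀)).comap π with hL
  have hzn : (zpowers (π x₀)).Normal := by
    constructor
    intro m hm c
    obtain ⟨j, rfl⟩ := hm
    have h3 : Commute c ((π x₀) ^ j) := Commute.zpow_right (show Commute c (π x₀) from hcen c) j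
    have h4 : c * (π x₀) ^ j * c⁻¹ = (π x₀) ^ j := by
      rw [h3.eq]
      group
    simp only at h4 ⊢
    rw [h4]
    exact ⟨j, rfl⟩
  haveI hLn : L.Normal := Subgroup.Normal.comap hzn π
  have hNL : ∀ {u : G}, u ∈ N → u ∈ L := by
    intro u hu
    change π u ∈ zpowers (π x₀)
    rw [(hker u).mpr hu]
    exact Subgroup.one_mem _
  set φ := QuotientGroup.mk' L with hφ
  have hφs : Function.Surjective φ := QuotientGroup.mk'_surjective L
  have hφker : ∀ x, φ x = 1 ↔ x ∈ L := fun x => QuotientGroup.eq_one_iff x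
  have hx₀L : x₀ ∈ L := ⟨1, by simp⟩
  have hcard : Nat.card (G ⧸ L) < n := by
    have h1 := Subgroup.card_eq_card_quotient_mul_card_subgroup L
    rw [hn] at h1
    have h3 : 1 < Nat.card L := by
      have hne : Nontrivial L := ⟨⟨⟨x₀, hx₀L⟩, 1, fun h => by
        have h4 : x₀ = 1 := congrArg Subtype.val h
        rw [h4, orderOf_one] at hx₀o
        omega⟩⟩
      exact Finite.one_lt_card_iff_nontrivial.mpr hne
    have h4 : 0 < Nat.card (G ⧸ L) := Nat.card_pos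
    rw [h1]
    nlinarith
  -- the image of `S` in `G/O(G)` contains the image of the preimage of the image in `G/L`
  have hmapL : ∀ u : G, φ u ∈ (S : Subgroup G).map φ → π u ∈ (S : Subgroup G).map π := by
    rintro u ⟨s, hs, hsu⟩
    have h1 : s⁻¹ * u ∈ L := by
      rw [← hφker, map_mul, map_inv, ← hsu]
      simp
    obtain ⟨j, hj⟩ := h1
    simp only at hj
    refine ⟨s * x₀ ^ j, mul_mem hs (zpow_mem hx₀S j), ?_⟩
    rw [map_mul, map_zpow, hj, map_mul, map_inv]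
    simp
  set S₂ : Sylow 2 (G ⧸ L) := S.mapSurjective hφs with hS₂
  have hS₂c : (S₂ : Subgroup (G ⧸ L)) = (S : Subgroup G).map φ := by
    rw [hS₂, Sylow.coe_mapSurjective]
  have hIH := ih _ hcard (G ⧸ L) rfl S₂ (φ x) (by rw [hS₂c]; exact ⟨x, hx, rfl⟩) (by
    intro y₂ hy₂ g₂ hg₂
    obtain ⟨j, rfl⟩ := hy₂
    obtain ⟨h, rfl⟩ := hφs g₂
    simp only at hg₂ ⊢
    rw [← map_zpow, ← map_inv, ← map_mul, ← map_mul] at hg₂ ⊢
    rw [hS₂c] at hg₂
    have hyS : x ^ j ∈ (S : Subgroup G) := zpow_mem hx j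
    have h1 := fixed_of_image S hyS (fun g hg => hfix _ (zpow_mem_zpowers x j) g hg)
      (hmapL _ hg₂)
    have h1' : π (h * x ^ j * h⁻¹) = π (x ^ j) := h1
    have h3 : (x ^ j)⁻¹ * (h * x ^ j * h⁻¹) ∈ N := by
      rw [← hker, map_mul, map_inv, h1', inv_mul_cancel]
    have h4 := hNL h3
    have h5 := (hφker _).mpr h4
    rw [map_mul, map_inv, inv_mul_eq_one] at h5
    exact h5.symm)
  have hc := hIH (φ g)
  rw [← map_inv, ← map_inv, ← map_mul, ← map_mul, ← map_mul] at hc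
  set c := g * x * g⁻¹ * x⁻¹ with hcdef
  -- the preimage of `O(G/L)`
  set L₁ : Subgroup G := (pPrimeCore 2 (G ⧸ L)).comap φ with hL₁
  haveI hL₁n : L₁.Normal := Subgroup.Normal.comap (Cfsg.pPrimeCore_normal 2 (G ⧸ L)) φ
  have hcL₁ : c ∈ L₁ := hc
  have h2L : ∀ u ∈ L₁, (∃ k : ℕ, orderOf u = 2 ^ k) → u ∈ L := by
    intro u hu h3
    rw [← hφker]
    have h4 : φ u ∈ pPrimeCore 2 (G ⧸ L) := hu
    apply eq_one_of_mem_core h4
    obtain ⟨k', hk'⟩ := h3
    have h5 : orderOf (φ u) ∣ 2 ^ k' := by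
      rw [← hk']
      exact orderOf_map_dvd _ _
    obtain ⟨j, -, hj⟩ := (Nat.dvd_prime_pow Nat.prime_two).mp h5
    exact ⟨j, hj⟩
  obtain ⟨P₁⟩ : Nonempty (Sylow 2 L₁) := inferInstance
  have hP₁ : IsCyclic P₁ := by
    have hmem : ∀ u : P₁, π ((u : L₁) : G) ∈ zpowers (π x₀) := by
      intro u
      refine h2L _ (u : L₁).2 ?_
      obtain ⟨k', hk'⟩ := (IsPGroup.iff_orderOf.mp P₁.isPGroup') u
      refine ⟨k', ?_⟩
      rw [← hk', Subgroup.orderOf_coe, Subgroup.orderOf_coe]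
    let f : P₁ →* zpowers (π x₀) :=
      (π.comp (L₁.subtype.comp (P₁ : Subgroup L₁).subtype)).codRestrict _ hmem
    have hf : Function.Injective f := by
      rw [injective_iff_map_eq_one]
      intro u hu
      have h1 : π ((u : L₁) : G) = 1 := congrArg (fun t : zpowers (π x₀) => (t : G ⧸ N)) hu
      obtain ⟨k', hk'⟩ := (IsPGroup.iff_orderOf.mp P₁.isPGroup') u
      have h3 := eq_one_of_mem_core ((hker _).mp h1) ⟨k', by
        rw [← hk', Subgroup.orderOf_coe, Subgroup.orderOf_coe]⟩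
      exact Subtype.ext (Subtype.ext h3)
    exact isCyclic_of_injective f hf
  have hoddN : ∀ v ∈ L₁, ¬ 2 ∣ orderOf v → v ∈ N := by
    intro v hv hvo
    have h3 := Cfsg.Agent.Lib.ZStar.Main.odd_mem_core_of_cyclic P₁ hP₁ (c := ⟨v, hv⟩)
      (by rwa [Subgroup.orderOf_mk])
    have h4 := Cfsg.Agent.Lib.Core.Basic.map_pPrimeCore_le_of_isSubnormal (p := 2)
      (Subgroup.Normal.isSubnormal hL₁n)
    exact h4 ⟨_, h3, rfl⟩
  have hcL : c ∈ L := by
    obtain ⟨u, v, huv, hcomm, hu, hv⟩ := Cfsg.Agent.Lib.Blocks.PPart.exists_pPart_y (p := 2) c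
    have humem : u ∈ zpowers c :=
      Cfsg.Agent.Lib.Blocks.PPart.isPPart_mem_zpowers ⟨v, huv, hcomm, hu, hv⟩
    have hvmem : v ∈ zpowers c := by
      have h1 : v = u⁻¹ * c := by rw [← huv]; group
      rw [h1]
      exact mul_mem (inv_mem humem) (mem_zpowers c)
    have hle : zpowers c ≤ L₁ := by
      rw [zpowers_le]
      exact hcL₁
    rw [← huv]
    exact mul_mem (h2L u (hle humem) hu) (hNL (hoddN v (hle hvmem) hv))
  obtain ⟨i, hi⟩ := hcL
  simp only at hi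
  have hgx : g * x * g⁻¹ = c * x := by
    rw [hcdef]
    group
  have hm : π (g * x * g⁻¹) ∈ (S : Subgroup G).map π := by
    refine ⟨x₀ ^ i * x, mul_mem (zpow_mem hx₀S i) hx, ?_⟩
    rw [hgx, map_mul, map_mul, map_zpow, hi]
  have h5 : π (g * x * g⁻¹) = π x := fixed_of_image S hx (fun g hg => hfix x (mem_zpowers x) g hg) hm
  rw [← hker, hcdef, map_mul, map_inv, h5, mul_inv_cancel]

end Cfsg.Agent.Lib.ZStar.Fus
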