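import Mathlib
import Cfsg.Agent.Lib.ZStar.Cor

/-!
# Sylow `2`-subgroups with central intersections
-/

set_option autoImplicit false
set_option linter.unusedSectionVars false
set_option linter.style.haveILetI false

namespace Cfsg.Agent.Lib.ZStar.CI

open Cfsg Subgroup
open Cfsg.Agent.Lib.ZStar.Cor

universe u

variable {G : Type u} [Group G] [Finite G]

theorem mem_smul_sylow {p : ℕ} [Fact p.Prime] (V : Sylow p G) (w x : G) :
    x ∈ ((w • V : Sylow p G) : Subgroup G) ↔ w⁻¹ * x * w ∈ (V : Subgroup G) := by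
  rw [Sylow.coe_subgroup_smul, Subgroup.mem_pointwise_smul_iff_inv_smul_mem]
  simp [MulAut.smul_def, mul_assoc]

/-- The normalizer condition for a `p`-group. -/
theorem exists_mem_normalizer {p : ℕ} [Fact p.Prime] {A D : Subgroup G} (hA : IsPGroup p A)
    (hDA : D ≤ A) (hne : D ≠ A) : ∃ a ∈ A, a ∉ D ∧ a ∈ normalizer (D : Set G) := by
  haveI : Group.IsNilpotent A := hA.isNilpotent
  have hlt : D.subgroupOf A ≠ ⊤ := by
    intro h
    apply hne
    apply le_antisymm hDA
    intro a ha
    have := (Subgroup.subgroupOf_eq_top.mp h) ha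
    exact this
  have h1 := Group.normalizerCondition_of_isNilpotent (D.subgroupOf A) (lt_top_iff_ne_top.mpr hlt)
  obtain ⟨a, ha, han⟩ := SetLike.exists_of_lt h1
  refine ⟨a, a.2, fun h => han (Subgroup.mem_subgroupOf.mpr h), ?_⟩
  rw [Subgroup.mem_normalizer_iff] at ha ⊢
  intro d
  constructor
  · intro hd
    have h2 := (ha ⟨d, hDA hd⟩).mp (Subgroup.mem_subgroupOf.mpr hd)
    exact Subgroup.mem_subgroupOf.mp h2
  · intro hd
    have hdA : d ∈ A := by
      have h2 := A.mul_mem (A.mul_mem (A.inv_mem a.2) (hDA hd)) a.2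
      simpa [mul_assoc] using h2
    have h2 := (ha ⟨d, hdA⟩).mpr (Subgroup.mem_subgroupOf.mpr hd)
    exact Subgroup.mem_subgroupOf.mp h2

theorem eq_of_le_sylow {p : ℕ} [Fact p.Prime] {A B : Sylow p G}
    (h : (A : Subgroup G) ≤ (B : Subgroup G)) : A = B :=
  Sylow.ext (le_antisymm h (by
    apply le_of_eq
    exact (Subgroup.eq_of_le_of_card_ge h (by
      rw [Sylow.card_eq_multiplicity, Sylow.card_eq_multiplicity])).symm))

/-- **In a group with central intersections, an element central in one Sylow subgroup containing it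
is central in every Sylow subgroup containing it.** -/
theorem central_all
    (hCI : ∀ S T : Sylow 2 G, S ≠ T → ∃ U : Sylow 2 G, (S : Subgroup G) ⊓ (T : Subgroup G) ≤
      (Subgroup.center ↥(U : Subgroup G)).map (U : Subgroup G).subtype)
    {y : G} (A B : Sylow 2 G) (hyA : y ∈ (A : Subgroup G)) (hyB : y ∈ (B : Subgroup G))
    (hcB : ∀ b ∈ (B : Subgroup G), b * y = y * b) : ∀ a ∈ (A : Subgroup G), a * y = y * a := by
  classical
  haveI : Fact (Nat.Prime 2) := ⟨Nat.prime_two⟩
  by_contra hA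
  let PP := {B : Sylow 2 G // y ∈ (B : Subgroup G) ∧ ∀ b ∈ (B : Subgroup G), b * y = y * b}
  haveI : Nonempty PP := ⟨⟨B, hyB, hcB⟩⟩
  haveI : Finite PP := Subtype.finite
  obtain ⟨⟨B₀, hyB₀, hcB₀⟩, hmax⟩ := Finite.exists_max
    (fun P : PP => Nat.card ((A : Subgroup G) ⊓ (P.1 : Subgroup G) : Subgroup G))
  have hne : A ≠ B₀ := by
    rintro rfl
    exact hA hcB₀
  set D := (A : Subgroup G) ⊓ (B₀ : Subgroup G) with hD
  have hyD : y ∈ D := ⟨hyA, hyB₀⟩
  obtain ⟨V, hV⟩ := hCI A B₀ hne
  have hV' : ∀ d ∈ D, d ∈ (V : Subgroup G) ∧ ∀ v ∈ (V : Subgroup G), v * d = d * v := by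
    intro d hd
    obtain ⟨c, hc, rfl⟩ := hV hd
    refine ⟨c.2, fun v hv => ?_⟩
    have h1 := (Subgroup.mem_center_iff.mp hc) ⟨v, hv⟩
    exact congrArg Subtype.val h1
  have hDne : D ≠ (A : Subgroup G) := by
    intro h
    apply hne
    apply eq_of_le_sylow
    rw [← h]
    exact inf_le_right
  obtain ⟨a, haA, haD, haN⟩ := exists_mem_normalizer A.isPGroup' inf_le_left hDne
  set N := normalizer (D : Set G) with hN
  have hVN : (V : Subgroup G) ≤ N := by
    intro v hv
    rw [hN, Subgroup.mem_normalizer_iff]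
    intro d
    constructor
    · intro hd
      have h1 := (hV' d hd).2 v hv
      have : v * d * v⁻¹ = d := by
        rw [h1]
        group
      rw [this]
      exact hd
    · intro hd
      have h1 := (hV' _ hd).2 v hv
      have h2 : v * d * v⁻¹ = d := by
        have h3 : (v * d * v⁻¹) * v = v * d := by group
        rw [h3] at h1
        exact mul_left_cancel h1
      rwa [h2] at hd
  set R : Subgroup G := (A : Subgroup G) ⊓ N with hR
  have hRN : R ≤ N := inf_le_right
  have hRp : IsPGroup 2 (R.subgroupOf N) := by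
    have h1 : IsPGroup 2 R := A.isPGroup'.to_le inf_le_left
    exact h1.comap_subtype
  obtain ⟨w, hw⟩ := Cfsg.Agent.Lib.ZStar.Q8Basic.exists_conj_into_sylow (V.subtype hVN) hRp
  have hmem : ∀ c : N, c ∈ ((V.subtype hVN : Sylow 2 N) : Subgroup N) ↔ (c : G) ∈ (V : Subgroup G) := by
    intro c
    rw [Sylow.coe_subtype, Subgroup.mem_subgroupOf]
  have hRV : ∀ r ∈ R, r ∈ (((w : G) • V : Sylow 2 G) : Subgroup G) := by
    intro r hr
    rw [mem_smul_sylow]
    have h1 := (hmem _).mp (hw ⟨r, hRN hr⟩ (Subgroup.mem_subgroupOf.mpr hr))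
    exact h1
  set V₁ : Sylow 2 G := (w : G) • V with hV₁
  have hDc : ∀ d ∈ D, d ∈ (V₁ : Subgroup G) ∧ ∀ v ∈ (V₁ : Subgroup G), v * d = d * v := by
    intro d hd
    have hdw : (w : G)⁻¹ * d * (w : G) ∈ D := by
      have h1 := (Subgroup.mem_normalizer_iff.mp w⁻¹.2 d).mp hd
      simpa using h1
    refine ⟨?_, fun v hv => ?_⟩
    · rw [hV₁, mem_smul_sylow]
      exact (hV' _ hdw).1
    · rw [hV₁, mem_smul_sylow] at hv
      have h1 := (hV' _ hdw).2 _ hv
      have h2 : (w : G)⁻¹ * (v * d) * (w : G) = (w : G)⁻¹ * (d * v) * (w : G) := by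
        calc (w : G)⁻¹ * (v * d) * (w : G)
            = ((w : G)⁻¹ * v * (w : G)) * ((w : G)⁻¹ * d * (w : G)) := by group
          _ = ((w : G)⁻¹ * d * (w : G)) * ((w : G)⁻¹ * v * (w : G)) := h1
          _ = _ := by group
      exact mul_left_cancel (mul_right_cancel h2)
  have hP := hmax ⟨V₁, (hDc y hyD).1, fun b hb => (hDc y hyD).2 b hb⟩
  simp only at hP
  have hDle : D ≤ (A : Subgroup G) ⊓ (V₁ : Subgroup G) := by
    intro d hd
    exact ⟨hd.1, (hDc d hd).1⟩
  have heq := Subgroup.eq_of_le_of_card_ge hDle hP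
  have haV : a ∈ (V₁ : Subgroup G) := hRV a ⟨haA, haN⟩
  have haDD : a ∈ D := by
    rw [heq]
    exact ⟨haA, haV⟩
  exact haD haDD

/-- Uniqueness of the involution in a cyclic group. -/
theorem eq_of_cyclic {X : Type*} [Group X] [Finite X] [IsCyclic X] {a b : X} (ha : orderOf a = 2)
    (hb : orderOf b = 2) : a = b := by
  classical
  letI := Fintype.ofFinite X
  have h2 : 2 ∣ Fintype.card X := by
    rw [← ha]
    exact orderOf_dvd_card
  have h1 := IsCyclic.card_orderOf_eq_totient h2
  rw [Nat.totient_two] at h1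
  have h3 := Finset.card_le_one.mp (le_of_eq h1)
  exact h3 a (by simp [ha]) b (by simp [hb])

/-- **An involution of a cyclic characteristic subgroup is isolated.** -/
theorem isolated_of_CI
    (hCI : ∀ S T : Sylow 2 G, S ≠ T → ∃ U : Sylow 2 G, (S : Subgroup G) ⊓ (T : Subgroup G) ≤
      (Subgroup.center ↥(U : Subgroup G)).map (U : Subgroup G).subtype)
    (S : Sylow 2 G) (C : Subgroup ↥(S : Subgroup G)) (hCc : IsCyclic ↥C) (hCh : C.Characteristic)
    (c : ↥(S : Subgroup G)) (hc : c ∈ C) (hc2 : orderOf c = 2) : IsIsolatedInvolution (c : G) := by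
  classical
  haveI : Fact (Nat.Prime 2) := ⟨Nat.prime_two⟩
  have hc2' : orderOf (c : G) = 2 := by rwa [Subgroup.orderOf_coe]
  -- any automorphism fixes `c`
  have haut : ∀ ϕ : ↥(S : Subgroup G) ≃* ↥(S : Subgroup G), ϕ c = c := by
    intro ϕ
    have h1 : ϕ c ∈ C := by
      have h2 : c ∈ C.comap ϕ.toMonoidHom := by
        rw [hCh.fixed ϕ]
        exact hc
      exact h2
    have h3 : orderOf (⟨ϕ c, h1⟩ : C) = 2 := by
      rw [Subgroup.orderOf_mk, MulEquiv.orderOf_eq]
      exact hc2
    have h4 : orderOf (⟨c, hc⟩ : C) = 2 := by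
      rw [Subgroup.orderOf_mk]
      exact hc2
    exact congrArg Subtype.val (eq_of_cyclic h3 h4)
  have hcen : ∀ s ∈ (S : Subgroup G), s * (c : G) = (c : G) * s := by
    intro s hs
    have h1 := haut (MulAut.conj (⟨s, hs⟩ : (S : Subgroup G)))
    have h2 : ⟨s, hs⟩ * c * (⟨s, hs⟩ : (S : Subgroup G))⁻¹ = c := h1
    have h3 : s * (c : G) * s⁻¹ = c := congrArg Subtype.val h2
    rw [mul_inv_eq_iff_eq_mul] at h3
    exact h3
  refine isolated_of_fixed S hc2' fun g hg => ?_
  set y := g * (c : G) * g⁻¹ with hy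
  set B : Sylow 2 G := g • S with hB
  have hmemB : ∀ x, x ∈ (B : Subgroup G) ↔ g⁻¹ * x * g ∈ (S : Subgroup G) := fun x =>
    mem_smul_sylow S g x
  have hyB : y ∈ (B : Subgroup G) := by
    rw [hmemB, hy]
    have : g⁻¹ * (g * (c : G) * g⁻¹) * g = c := by group
    rw [this]
    exact c.2
  have hcB : ∀ b ∈ (B : Subgroup G), b * y = y * b := by
    intro b hb
    have h1 := hcen _ ((hmemB b).mp hb)
    have h2 : g⁻¹ * (b * y) * g = g⁻¹ * (y * b) * g := by
      calc g⁻¹ * (b * y) * g = (g⁻¹ * b * g) * (c : G) := by rw [hy]; group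
        _ = (c : G) * (g⁻¹ * b * g) := h1
        _ = _ := by rw [hy]; group
    exact mul_left_cancel (mul_right_cancel h2)
  have hcS := central_all hCI S B hg hyB hcB
  -- conjugate in the centralizer of `y`
  set K := centralizer ({y} : Set G) with hK
  have hSK : (S : Subgroup G) ≤ K := fun s hs => mem_centralizer_singleton_iff.mpr (hcS s hs)
  have hBK : (B : Subgroup G) ≤ K := fun s hs => mem_centralizer_singleton_iff.mpr (hcB s hs)
  obtain ⟨h, hh⟩ := MulAction.exists_smul_eq K (B.subtype hBK) (S.subtype hSK)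
  have hconj : ∀ b ∈ (B : Subgroup G), (h : G) * b * (h : G)⁻¹ ∈ (S : Subgroup G) := by
    intro b hb
    have h1 : (⟨b, hBK hb⟩ : K) ∈ ((B.subtype hBK : Sylow 2 K) : Subgroup K) := by
      rw [Sylow.coe_subtype, Subgroup.mem_subgroupOf]
      exact hb
    have h2 : h * ⟨b, hBK hb⟩ * h⁻¹ ∈ ((h • B.subtype hBK : Sylow 2 K) : Subgroup K) := by
      rw [mem_smul_sylow]
      simpa [mul_assoc] using h1
    rw [hh, Sylow.coe_subtype, Subgroup.mem_subgroupOf] at h2
    exact h2
  set t := (h : G) * g with ht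
  have htS : ∀ s ∈ (S : Subgroup G), t * s * t⁻¹ ∈ (S : Subgroup G) := by
    intro s hs
    have h1 : g * s * g⁻¹ ∈ (B : Subgroup G) := by
      rw [hmemB]
      have : g⁻¹ * (g * s * g⁻¹) * g = s := by group
      rw [this]
      exact hs
    have h2 := hconj _ h1
    have e : t * s * t⁻¹ = (h : G) * (g * s * g⁻¹) * (h : G)⁻¹ := by
      rw [ht]
      group
    rw [e]
    exact h2
  let f : ↥(S : Subgroup G) →* ↥(S : Subgroup G) :=
    { toFun := fun s => ⟨t * s * t⁻¹, htS s s.2⟩
      map_one' := by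
        apply Subtype.ext
        simp
      map_mul' := fun a b => by
        apply Subtype.ext
        simp only [Subgroup.coe_mul]
        group }
  have hf : Function.Injective f := by
    intro a b hab
    have h1 : t * (a : G) * t⁻¹ = t * (b : G) * t⁻¹ := congrArg Subtype.val hab
    exact Subtype.ext (mul_left_cancel (mul_right_cancel h1))
  have hfb : Function.Bijective f := ⟨hf, Finite.injective_iff_surjective.mp hf⟩
  have h1 := haut (MulEquiv.ofBijective f hfb)
  have h2 : t * (c : G) * t⁻¹ = c := congrArg Subtype.val h1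
  have hhy : (h : G) * y = y * (h : G) := mem_centralizer_singleton_iff.mp h.2
  calc y = (h : G) * y * (h : G)⁻¹ := by
        rw [hhy]
        group
    _ = t * (c : G) * t⁻¹ := by
        rw [ht, hy]
        group
    _ = c := h2

end Cfsg.Agent.Lib.ZStar.CI
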